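import Groth.Agent.Lib.Helper22.SchGeomConn2
import Groth.Prelude.Def_MoreMor

set_option autoImplicit false
set_option linter.style.haveILetI false
universe u
open AlgebraicGeometry CategoryTheory CategoryTheory.Limits

namespace Groth.Agent.Lib.Helper18.SecComp

/-- For an inducing map, the preimage of a connected component of a subset of the range lies in
the connected component upstairs. -/
theorem preimage_connectedComponentIn_subset {P X : Type*} [TopologicalSpace P]
    [TopologicalSpace X] {ι : P → X} (hι : Topology.IsInducing ι) (F : Set X)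
    (hF : F ⊆ Set.range ι) (a : P) (ha : ι a ∈ F) :
    ι ⁻¹' connectedComponentIn F (ι a) ⊆ connectedComponent a := by
  have h1 : _root_.IsPreconnected (ι ⁻¹' connectedComponentIn F (ι a)) := by
    rw [← hι.isPreconnected_image, Set.image_preimage_eq_inter_range,
      Set.inter_eq_left.2 ((connectedComponentIn_subset F _).trans hF)]
    exact isPreconnected_connectedComponentIn
  exact h1.subset_connectedComponent (mem_connectedComponentIn ha)

/-- An isomorphism is geometrically connected. -/
theorem geometricallyConnected_of_isIso {X Y : Scheme.{u}} (f : X ⟶ Y) [IsIso f] :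
    GeometricallyConnected f := by
  rw [GeometricallyConnected.eq_geometrically, geometrically_iff_of_isClosedUnderIsomorphisms]
  intro K _ x
  haveI : ConnectedSpace ↥(Spec (CommRingCat.of K)) :=
    inferInstanceAs (ConnectedSpace (PrimeSpectrum K))
  exact (pullback.snd f x).homeomorph.symm.surjective.connectedSpace
    (pullback.snd f x).homeomorph.symm.continuous

/-- A pullback over a composite base map factors through the pullback over the second map
(with the compatibility of the first projections). -/
theorem exists_lift_isPullback' {C : Type*} [Category C] {G G' X Y S S' : C} {a : G ⟶ X}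
    {b : G ⟶ S} {f : X ⟶ Y} {c : S ⟶ Y} (PG : IsPullback a b f c) {a' : G' ⟶ X} {b' : G' ⟶ S'}
    {c' : S' ⟶ Y} (PG' : IsPullback a' b' f c') (t : S' ⟶ S) (ht : c' = t ≫ c) :
    ∃ π : G' ⟶ G, IsPullback π b' b t ∧ π ≫ a = a' := by
  subst ht
  have hw : a' ≫ f = (b' ≫ t) ≫ c := by rw [Category.assoc]; exact PG'.w
  refine ⟨PG.lift a' (b' ≫ t) hw, IsPullback.of_right ?_ (PG.lift_snd _ _ hw) PG,
    PG.lift_fst _ _ hw⟩
  rw [PG.lift_fst]
  exact PG'

section field

variable {k K : Type u} [Field k] [Field K] [Algebra k K]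

/-- The connected component of a rational point is geometrically connected: its preimage in any
base change along a field extension is connected. -/
theorem isConnected_preimage_connectedComponent_of_section {P P' : Scheme.{u}}
    (str : P ⟶ Spec (CommRingCat.of k)) (r : Spec (CommRingCat.of k) ⟶ P)
    (hr : r ≫ str = 𝟙 _) (π : P' ⟶ P) (str' : P' ⟶ Spec (CommRingCat.of K))
    (hπ : IsPullback π str' str (Spec.map (CommRingCat.ofHom (algebraMap k K))))
    (pt : ↥(Spec (CommRingCat.of k))) :
    _root_.IsConnected (π ⁻¹' connectedComponent (r pt)) := by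
  haveI : GeometricallyConnected (r ≫ str) := by
    rw [hr]; exact geometricallyConnected_of_isIso _
  have h1 := Groth.Agent.Lib.Helper22.SchGeomConn.isConnected_preimage_connectedComponent_of_source
    str r pt K
  let e : P' ≅ FBase.bc str K := hπ.isoPullback
  have he : e.hom ≫ FBase.bcπ str K = π := hπ.isoPullback_hom_fst
  have h2 : π ⁻¹' connectedComponent (r pt) =
      e.hom.homeomorph ⁻¹' (FBase.bcπ str K ⁻¹' connectedComponent (r pt)) := by
    rw [← he]
    rfl
  rw [h2, Homeomorph.isConnected_preimage]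
  exact h1

end field

variable {X Y X' Y' : Scheme.{u}} (f : X ⟶ Y) (s : Y ⟶ X) (hs : s ≫ f = 𝟙 Y)
  (f' : X' ⟶ Y') (g' : X' ⟶ X) (g : Y' ⟶ Y) (hc : IsPullback g' f' f g)
  (s' : Y' ⟶ X') (hs' : s' ≫ f' = 𝟙 Y') (hs'g : s' ≫ g' = g ≫ s)

include hs hc hs' hs'g in
/-- Key inclusion: the part of the fibre over `y'` lying over the section component downstairs is
contained in the section component upstairs. -/
theorem preimage_inter_subset (y' : Y') :
    g' ⁻¹' connectedComponentIn (f ⁻¹' {g y'}) (s (g y')) ∩ f' ⁻¹' {y'} ⊆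
      connectedComponentIn (f' ⁻¹' {y'}) (s' y') := by
  -- the residue fields
  letI : Algebra (Y.residueField (g y')) (Y'.residueField y') :=
    (g.residueFieldMap y').hom.toAlgebra
  have PG : IsPullback (f.fiberι (g y')) (f.fiberToSpecResidueField (g y')) f
      (Y.fromSpecResidueField (g y')) := IsPullback.of_hasPullback _ _
  have PG'0 : IsPullback (f'.fiberι y') (f'.fiberToSpecResidueField y') f'
      (Y'.fromSpecResidueField y') := IsPullback.of_hasPullback _ _
  have PG' := PG'0.paste_horiz hc
  have ht : Y'.fromSpecResidueField y' ≫ g =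
      Spec.map (CommRingCat.ofHom (algebraMap (Y.residueField (g y')) (Y'.residueField y'))) ≫
        Y.fromSpecResidueField (g y') :=
    (Scheme.Hom.SpecMap_residueFieldMap_fromSpecResidueField g y').symm
  obtain ⟨π, hπ, hπι⟩ := exists_lift_isPullback' PG PG' _ ht
  -- the rational point
  have hw : (Y.fromSpecResidueField (g y') ≫ s) ≫ f = 𝟙 _ ≫ Y.fromSpecResidueField (g y') := by
    rw [Category.assoc, hs, Category.comp_id, Category.id_comp]
  set r : Spec (Y.residueField (g y')) ⟶ f.fiber (g y') :=
    PG.lift (Y.fromSpecResidueField (g y') ≫ s) (𝟙 _) hw with hrdef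
  have hr1 : r ≫ f.fiberι (g y') = Y.fromSpecResidueField (g y') ≫ s := PG.lift_fst _ _ hw
  have hr2 : r ≫ f.fiberToSpecResidueField (g y') = 𝟙 _ := PG.lift_snd _ _ hw
  obtain ⟨pt⟩ : Nonempty ↥(Spec (Y.residueField (g y'))) := inferInstance
  have hrpt : f.fiberι (g y') (r pt) = s (g y') := by
    rw [← Scheme.Hom.comp_apply, hr1, Scheme.Hom.comp_apply, Scheme.fromSpecResidueField_apply]
  have hconn := isConnected_preimage_connectedComponent_of_section
    (k := Y.residueField (g y')) (K := Y'.residueField y')
    (f.fiberToSpecResidueField (g y')) r hr2 π (f'.fiberToSpecResidueField y') hπ pt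
  -- the connected set
  set D : Set X' := f'.fiberι y' '' (π ⁻¹' connectedComponent (r pt)) with hD
  have hDconn : _root_.IsPreconnected D :=
    (hconn.image _ (f'.fiberι y').continuous.continuousOn).isPreconnected
  have hDsub : D ⊆ f' ⁻¹' {y'} := by
    rintro _ ⟨w, -, rfl⟩
    have : f'.fiberι y' w ∈ Set.range (f'.fiberι y') := ⟨w, rfl⟩
    rw [f'.range_fiberι] at this
    exact this
  have hpt : ∀ w : ↥(f'.fiber y'), f.fiberι (g y') (π w) = g' (f'.fiberι y' w) := fun w => by
    rw [← Scheme.Hom.comp_apply, hπι, Scheme.Hom.comp_apply]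
  have hFrange : f ⁻¹' {g y'} ⊆ Set.range (f.fiberι (g y')) := by
    rw [f.range_fiberι]
  have hsF : f.fiberι (g y') (r pt) ∈ f ⁻¹' {g y'} := by
    rw [hrpt]
    show f (s (g y')) = g y'
    rw [← Scheme.Hom.comp_apply, hs]
    rfl
  have hkey : ∀ w : ↥(f'.fiber y'),
      g' (f'.fiberι y' w) ∈ connectedComponentIn (f ⁻¹' {g y'}) (s (g y')) →
      f'.fiberι y' w ∈ D := by
    intro w hw
    refine ⟨w, ?_, rfl⟩
    apply preimage_connectedComponentIn_subset (f.fiberι (g y')).isEmbedding.isInducing
      (f ⁻¹' {g y'}) hFrange (r pt) hsF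
    rw [Set.mem_preimage, hpt, hrpt]
    exact hw
  have hs'y' : s' y' ∈ f' ⁻¹' {y'} := by
    show f' (s' y') = y'
    rw [← Scheme.Hom.comp_apply, hs']
    rfl
  have hmemD : s' y' ∈ D := by
    obtain ⟨w, hw⟩ : s' y' ∈ Set.range (f'.fiberι y') := by
      rw [f'.range_fiberι]; exact hs'y'
    have hgs : g' (s' y') = s (g y') := by
      rw [← Scheme.Hom.comp_apply, hs'g, Scheme.Hom.comp_apply]
    rw [← hw]
    apply hkey
    rw [hw, hgs]
    apply mem_connectedComponentIn
    rw [← hrpt]
    exact hsF
  rintro x' ⟨hx'1, hx'2⟩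
  refine hDconn.subset_connectedComponentIn hmemD hDsub ?_
  obtain ⟨w, hw⟩ : x' ∈ Set.range (f'.fiberι y') := by
    rw [f'.range_fiberι]; exact hx'2
  rw [← hw]
  apply hkey
  rw [hw]
  exact hx'1

include hs hc hs' hs'g in
/-- Section components are compatible with base change. -/
theorem sectionComponents_baseChange :
    MoreMor.sectionComponents f' s' = g' ⁻¹' MoreMor.sectionComponents f s := by
  ext x'
  have hfg : f (g' x') = g (f' x') := by
    rw [← Scheme.Hom.comp_apply, ← Scheme.Hom.comp_apply, hc.w]
  have hsg : ∀ y' : Y', g' (s' y') = s (g y') := fun y' => by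
    rw [← Scheme.Hom.comp_apply, hs'g, Scheme.Hom.comp_apply]
  show x' ∈ connectedComponentIn (f' ⁻¹' {f' x'}) (s' (f' x')) ↔
    g' x' ∈ connectedComponentIn (f ⁻¹' {f (g' x')}) (s (f (g' x')))
  rw [hfg]
  constructor
  · intro hx'
    have hs'y' : s' (f' x') ∈ f' ⁻¹' {f' x'} := by
      show f' (s' (f' x')) = f' x'
      rw [← Scheme.Hom.comp_apply, hs']
      rfl
    have himg : _root_.IsPreconnected (g' '' connectedComponentIn (f' ⁻¹' {f' x'}) (s' (f' x'))) :=
      isPreconnected_connectedComponentIn.image _ g'.continuous.continuousOn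
    have hsub : g' '' connectedComponentIn (f' ⁻¹' {f' x'}) (s' (f' x')) ⊆ f ⁻¹' {g (f' x')} := by
      rintro _ ⟨w, hw, rfl⟩
      have hw' : w ∈ f' ⁻¹' {f' x'} := connectedComponentIn_subset _ _ hw
      have hw' : f' w = f' x' := hw'
      show f (g' w) = g (f' x')
      rw [← Scheme.Hom.comp_apply, hc.w, Scheme.Hom.comp_apply, hw']
    have hmem : s (g (f' x')) ∈ g' '' connectedComponentIn (f' ⁻¹' {f' x'}) (s' (f' x')) :=
      ⟨s' (f' x'), mem_connectedComponentIn hs'y', hsg _⟩
    exact himg.subset_connectedComponentIn hmem hsub ⟨x', hx', rfl⟩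
  · intro hx'
    exact preimage_inter_subset f s hs f' g' g hc s' hs' hs'g (f' x') ⟨hx', rfl⟩

end Groth.Agent.Lib.Helper18.SecComp
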